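/-
Morphisms of finite flat schemes across a closed subset of depth at least one or two.
-/
import Mathlib
import Groth.Agent.ParaFLib.UfdApply
import Groth.Agent.ZCl.Depth
import Groth.Agent.Goren.MCMDepth

universe u

open CategoryTheory AlgebraicGeometry TopologicalSpace Opposite IsLocalRing
open scoped TensorProduct

set_option backward.isDefEq.respectTransparency false

noncomputable section

namespace Groth.Agent.FinFlatExt

theorem idealDepth_le_depth {S : Type u} [CommRing S] [IsLocalRing S] {J : Ideal S} (hJ : J ≤ maximalIdeal S) :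
    LocCoh.idealDepth J S ≤ LocCoh.depth S S := by
  rw [LocCoh.depth, LocCoh.idealDepth, LocCoh.idealDepth]
  split_ifs with h1 h2 h3
  · exact le_rfl
  · exact absurd (top_le_iff.1 (h1.ge.trans (Submodule.smul_mono hJ le_rfl))) h2
  · exact le_top
  · exact iSup₂_le fun rs hrs => le_iSup₂_of_le rs ⟨hrs.1, fun r hr => hJ (hrs.2 r hr)⟩ le_rfl

theorem depth_le_of_flat (R S : Type u) [CommRing R] [IsNoetherianRing R] [IsLocalRing R] [CommRing S]
    [IsNoetherianRing S] [IsLocalRing S] [Algebra R S] [Module.Flat R S] [IsLocalHom (algebraMap R S)] :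
    LocCoh.depth R R ≤ LocCoh.depth S S := by
  refine ((LocH.idealDepth_le_baseChange (S := S) (maximalIdeal R) R).trans_eq
    (LocH.idealDepth_congr (TensorProduct.AlgebraTensorModule.rid R S S) _)).trans ?_
  exact idealDepth_le_depth ((((IsLocalRing.local_hom_TFAE (algebraMap R S)).out 0 2) :
    IsLocalHom (algebraMap R S) ↔ (maximalIdeal R).map (algebraMap R S) ≤ maximalIdeal S).1 ‹_›)

/-- Depth does not drop on a flat cover. -/
theorem depth_le_stalk {G S : Scheme.{u}} [IsLocallyNoetherian S] [IsLocallyNoetherian G] (f : G ⟶ S) [Flat f]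
    (x : G) : LocCoh.depth (S.presheaf.stalk (f x)) (S.presheaf.stalk (f x)) ≤
      LocCoh.depth (G.presheaf.stalk x) (G.presheaf.stalk x) := by
  letI := (f.stalkMap x).hom.toAlgebra
  haveI : Module.Flat (S.presheaf.stalk (f x)) (G.presheaf.stalk x) := Flat.stalkMap f x
  haveI : IsLocalHom (algebraMap (S.presheaf.stalk (f x)) (G.presheaf.stalk x)) := f.toLRSHom.prop x
  exact depth_le_of_flat _ _

/-- A maximal ideal which is not associated gives depth one. -/
theorem one_le_depth {A : Type u} [CommRing A] [IsLocalRing A] [IsNoetherianRing A]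
    (h : maximalIdeal A ∉ associatedPrimes A A) : (1 : ℕ∞) ≤ LocCoh.depth A A := by
  rw [Order.one_le_iff_pos, Goren.depth_pos_iff_exists]
  by_contra hc
  push Not at hc
  have hsub : ((maximalIdeal A : Ideal A) : Set A) ⊆ ⋃ P ∈ associatedPrimes A A, (P : Set A) := by
    rw [biUnion_associatedPrimes_eq_zero_divisors]
    intro x hx
    have := hc x hx
    rw [isSMulRegular_iff_right_eq_zero_of_smul] at this
    push Not at this
    obtain ⟨y, hy, hy0⟩ := this
    exact ⟨y, hy0, hy⟩
  obtain ⟨P, hP, hle⟩ := (Ideal.subset_union_prime_finite (associatedPrimes.finite A A) ⊥ ⊥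
    fun P hP _ _ => IsAssociatedPrime.isPrime hP).1 hsub
  exact h ((maximalIdeal.isMaximal A).eq_of_le (IsAssociatedPrime.isPrime hP).ne_top hle ▸ hP)

variable {G S : Scheme.{u}} [IsLocallyNoetherian S] (f : G ⟶ S) [AlgebraicGeometry.IsFinite f] [Flat f]
  (U : S.Opens)

include f in
theorem locNoeth : IsLocallyNoetherian G := LocallyOfFiniteType.isLocallyNoetherian f

theorem injective_res (hU : ∀ s : S, s ∉ U → (1 : ℕ∞) ≤ LocCoh.depth (S.presheaf.stalk s) (S.presheaf.stalk s))
    {V : S.Opens} (hV : IsAffineOpen V) :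
    Function.Injective (G.presheaf.map
      (homOfLE (inf_le_right : f ⁻¹ᵁ U ⊓ f ⁻¹ᵁ V ≤ f ⁻¹ᵁ V)).op) := by
  haveI := locNoeth f
  refine (ZCl.injective_rs_iff_depth (Coh.structureModule G) RefStalk.isCoh_structureModule (hV.preimage f)
    (f ⁻¹ᵁ U)).2 fun x _ hx => ?_
  obtain ⟨e, -⟩ := RefStalk.exists_structStalk (X := G) x
  rw [LocCoh.depth, ← LocH.idealDepth_congr e _]
  exact (hU (f x) hx).trans (depth_le_stalk f x)

theorem bijective_res (hU : ∀ s : S, s ∉ U → (2 : ℕ∞) ≤ LocCoh.depth (S.presheaf.stalk s) (S.presheaf.stalk s))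
    {V : S.Opens} (hV : IsAffineOpen V) :
    Function.Bijective (G.presheaf.map
      (homOfLE (inf_le_right : f ⁻¹ᵁ U ⊓ f ⁻¹ᵁ V ≤ f ⁻¹ᵁ V)).op) := by
  haveI := locNoeth f
  refine (ZCl.bijective_rs_iff_depth (Coh.structureModule G) RefStalk.isCoh_structureModule (hV.preimage f)
    (f ⁻¹ᵁ U)).2 fun x _ hx => ?_
  obtain ⟨e, -⟩ := RefStalk.exists_structStalk (X := G) x
  rw [LocCoh.depth, ← LocH.idealDepth_congr e _]
  exact (hU (f x) hx).trans (depth_le_stalk f x)

end Groth.Agent.FinFlatExt

namespace Groth.Agent.FinFlatExt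

variable {G A : Scheme.{u}} {W T : G.Opens} (h : W ≤ T)

theorem appTop_injective (hi : Function.Injective (G.presheaf.map (homOfLE h).op)) :
    Function.Injective (G.homOfLE h).appTop := by
  intro a b hab
  rw [Scheme.homOfLE_appTop] at hab
  have hT : Function.Injective T.topIso.hom := (ConcreteCategory.bijective_of_isIso _).1
  have hW : Function.Injective W.topIso.hom := (ConcreteCategory.bijective_of_isIso _).1
  apply hT
  apply hi
  have := congrArg W.topIso.hom hab
  simpa [Scheme.Opens.topIso, ← ConcreteCategory.comp_apply, ← Functor.map_comp, ← op_comp] using this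

theorem appTop_surjective (hs : Function.Surjective (G.presheaf.map (homOfLE h).op)) :
    Function.Surjective (G.homOfLE h).appTop := by
  intro b
  have hT : Function.Surjective T.topIso.hom := (ConcreteCategory.bijective_of_isIso _).2
  have hW : Function.Injective W.topIso.hom := (ConcreteCategory.bijective_of_isIso _).1
  obtain ⟨c, hc⟩ := hs (W.topIso.hom b)
  obtain ⟨a, rfl⟩ := hT c
  refine ⟨a, hW ?_⟩
  rw [← hc, Scheme.homOfLE_appTop]
  simp [Scheme.Opens.topIso, ← ConcreteCategory.comp_apply, ← Functor.map_comp, ← op_comp]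

theorem hom_ext_of_injective [IsAffine A] (hi : Function.Injective (G.presheaf.map (homOfLE h).op))
    {a b : T.toScheme ⟶ A} (hab : G.homOfLE h ≫ a = G.homOfLE h ≫ b) : a = b := by
  refine ext_of_isAffine ?_
  have := congrArg Scheme.Hom.appTop hab
  simp only [Scheme.Hom.comp_appTop] at this
  haveI hm : Mono (G.homOfLE h).appTop := ConcreteCategory.mono_of_injective _ (appTop_injective h hi)
  exact (cancel_mono _).1 this

theorem exists_lift [IsAffine A] (hb : Function.Bijective (G.presheaf.map (homOfLE h).op))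
    (g : W.toScheme ⟶ A) : ∃ a : T.toScheme ⟶ A, G.homOfLE h ≫ a = g := by
  haveI : IsIso (G.homOfLE h).appTop :=
    (ConcreteCategory.isIso_iff_bijective _).2 ⟨appTop_injective h hb.1, appTop_surjective h hb.2⟩
  refine ⟨T.toScheme.toSpecΓ ≫ Spec.map (g.appTop ≫ inv (G.homOfLE h).appTop) ≫ A.isoSpec.inv, ?_⟩
  rw [← cancel_mono A.isoSpec.hom]
  simp only [Category.assoc, Iso.inv_hom_id, Category.comp_id]
  rw [Scheme.toSpecΓ_naturality_assoc, ← Spec.map_comp, Category.assoc, IsIso.inv_hom_id, Category.comp_id]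
  exact (Scheme.toSpecΓ_naturality g).symm

end Groth.Agent.FinFlatExt
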