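/-
Maps of finite flat algebras and schemes which are isomorphisms on fibres in codimension at most one.
-/
import Mathlib

universe u

open CategoryTheory AlgebraicGeometry Limits TopologicalSpace IsLocalRing
open scoped TensorProduct

set_option backward.isDefEq.respectTransparency false

noncomputable section

namespace Groth.Agent.FinFlatExt

theorem bijective_free_codim_one {R : Type u} [CommRing R] [IsNoetherianRing R] [IsLocalRing R]
    {M N : Type u} [AddCommGroup M] [Module R M] [Module.Finite R M] [Module.Free R M]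
    [AddCommGroup N] [Module R N] [Module.Finite R N] [Module.Free R N] (β : M →ₗ[R] N)
    (h : ∀ (K : Type u) [Field K] [Algebra R K], (RingHom.ker (algebraMap R K)).height ≤ 1 →
      Function.Bijective (β.baseChange K)) : Function.Bijective β := by
  classical
  obtain ⟨q, hq⟩ := Ideal.exists_minimalPrimes_le (I := (⊥ : Ideal R)) (J := maximalIdeal R) bot_le
  haveI := hq.1.isPrime
  have hh : q.height ≤ 1 := by
    rw [Ideal.height_eq_zero_iff.2 hq.1]
    exact zero_le
  have hrk : Module.finrank R M = Module.finrank R N := by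
    have e := (LinearEquiv.ofBijective _ (h q.ResidueField (by rwa [Ideal.ker_algebraMap_residueField]))).finrank_eq
    rwa [Module.finrank_baseChange, Module.finrank_baseChange] at e
  let bM := Module.finBasis R M
  let bN := (Module.finBasis R N).reindex (finCongr hrk.symm)
  let A := LinearMap.toMatrix bM bN β
  suffices hdet : IsUnit A.det by
    exact (show Function.Bijective β from (LinearEquiv.ofIsUnitDet (f := β) hdet).bijective)
  by_contra hu
  obtain ⟨P, hP, hPm⟩ := Ideal.exists_minimalPrimes_le (J := maximalIdeal R)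
    ((Ideal.span_singleton_le_iff_mem _).2 ((mem_maximalIdeal _).2 hu))
  haveI := hP.isPrime
  have hP1 : P.height ≤ 1 := Ideal.height_le_one_of_isPrincipal_of_mem_minimalPrimes _ P hP
  have hb := h P.ResidueField (by rwa [Ideal.ker_algebraMap_residueField])
  have hdet0 : algebraMap R P.ResidueField A.det = 0 :=
    (Ideal.algebraMap_residueField_eq_zero).2 (hP.1.2 (Ideal.subset_span rfl))
  have hA : LinearMap.toMatrix (Algebra.TensorProduct.basis P.ResidueField bM)
      (Algebra.TensorProduct.basis P.ResidueField bN) (β.baseChange P.ResidueField) =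
      A.map (algebraMap R P.ResidueField) := LinearMap.toMatrix_baseChange P.ResidueField β bM bN
  have hu' : IsUnit (LinearMap.toMatrix (Algebra.TensorProduct.basis P.ResidueField bM)
      (Algebra.TensorProduct.basis P.ResidueField bN) (β.baseChange P.ResidueField)).det :=
    LinearEquiv.isUnit_det (LinearEquiv.ofBijective _ hb) _ _
  rw [hA, ← RingHom.mapMatrix_apply, ← RingHom.map_det, hdet0] at hu'
  exact not_isUnit_zero hu'

theorem bijective_codim_one {R : Type u} [CommRing R] [IsNoetherianRing R]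
    {M N : Type u} [AddCommGroup M] [Module R M] [Module.Finite R M] [Module.Flat R M]
    [AddCommGroup N] [Module R N] [Module.Finite R N] [Module.Flat R N] (β : M →ₗ[R] N)
    (h : ∀ (K : Type u) [Field K] [Algebra R K], (RingHom.ker (algebraMap R K)).height ≤ 1 →
      Function.Bijective (β.baseChange K)) : Function.Bijective β := by
  refine bijective_of_isLocalized_maximal (fun P _ => (Localization.AtPrime P) ⊗[R] M)
    (fun P _ => TensorProduct.mk R (Localization.AtPrime P) M 1)
    (fun P _ => (Localization.AtPrime P) ⊗[R] N)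
    (fun P _ => TensorProduct.mk R (Localization.AtPrime P) N 1) β fun P hP => ?_
  let Rm := Localization.AtPrime P
  have hmap : IsLocalizedModule.map P.primeCompl (TensorProduct.mk R Rm M 1) (TensorProduct.mk R Rm N 1) β =
      (β.baseChange Rm).restrictScalars R := by
    refine IsLocalizedModule.linearMap_ext P.primeCompl (TensorProduct.mk R Rm M 1) (TensorProduct.mk R Rm N 1) ?_
    ext m
    rw [LinearMap.comp_apply, IsLocalizedModule.map_apply]
    rfl
  rw [hmap, LinearMap.coe_restrictScalars]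
  haveI : Module.Free Rm (Rm ⊗[R] M) := Module.free_of_flat_of_isLocalRing
  haveI : Module.Free Rm (Rm ⊗[R] N) := Module.free_of_flat_of_isLocalRing
  refine bijective_free_codim_one (β.baseChange Rm) fun K _ _ hK => ?_
  letI : Algebra R K := ((algebraMap Rm K).comp (algebraMap R Rm)).toAlgebra
  haveI : IsScalarTower R Rm K := IsScalarTower.of_algebraMap_eq fun _ => rfl
  have hker : (RingHom.ker (algebraMap R K)).height ≤ 1 := by
    haveI := RingHom.ker_isPrime (algebraMap Rm K)
    rw [IsScalarTower.algebraMap_eq R Rm K, ← RingHom.comap_ker]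
    exact (IsLocalization.height_under P.primeCompl (RingHom.ker (algebraMap Rm K))).le.trans hK
  have hb := h K hker
  have hcomm : (TensorProduct.AlgebraTensorModule.cancelBaseChange R Rm K K N).toLinearMap ∘ₗ
      (β.baseChange Rm).baseChange K =
      β.baseChange K ∘ₗ (TensorProduct.AlgebraTensorModule.cancelBaseChange R Rm K K M).toLinearMap := by
    ext m
    simp
  have h2 := congrArg DFunLike.coe hcomm
  simp only [LinearMap.coe_comp, LinearEquiv.coe_coe] at h2
  refine (Function.Bijective.of_comp_iff' (TensorProduct.AlgebraTensorModule.cancelBaseChange R Rm K K N).bijective _).1 ?_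
  rw [h2]
  exact hb.comp (LinearEquiv.bijective _)

end Groth.Agent.FinFlatExt

namespace Groth.Agent.FinFlatExt

variable {X Z S : Scheme.{u}}

/-- Being an isomorphism over a point passes to field-valued points over it. -/
theorem isIso_map_of_field {g : Z ⟶ S} {h : X ⟶ S} (Ψ : X ⟶ Z) (w : Ψ ≫ g = h) {K : Type u} [Field K]
    (σ : Spec (CommRingCat.of K) ⟶ S)
    (hiso : ∀ s : S, s ∈ Set.range σ → IsIso (pullback.map h (S.fromSpecResidueField s) g (S.fromSpecResidueField s) Ψ
        (𝟙 _) (𝟙 S) (by simp [w]) (by simp))) :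
    IsIso (pullback.map h σ g σ Ψ (𝟙 _) (𝟙 S) (by simp [w]) (by simp)) := by
  obtain ⟨s, φ, hσ, hs⟩ : ∃ (s : S) (φ : S.residueField s ⟶ CommRingCat.of K),
      Spec.map φ ≫ S.fromSpecResidueField s = σ ∧ s ∈ Set.range σ := by
    refine ⟨_, Scheme.descResidueField (Scheme.stalkClosedPointTo σ),
      Scheme.descResidueField_stalkClosedPointTo_fromSpecResidueField _ _ σ, ⟨_, rfl⟩⟩
  subst hσ
  haveI := hiso s hs
  let ψ : Over.mk h ⟶ Over.mk g := Over.homMk Ψ w
  haveI h1 : IsIso ((Over.pullback (S.fromSpecResidueField s)).map ψ) := by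
    haveI : IsIso ((Over.pullback (S.fromSpecResidueField s)).map ψ).left := by
      have e : ((Over.pullback (S.fromSpecResidueField s)).map ψ).left =
          pullback.map h (S.fromSpecResidueField s) g (S.fromSpecResidueField s) Ψ (𝟙 _) (𝟙 S)
            (by simp [w]) (by simp) := by
        apply pullback.hom_ext <;> simp [ψ]
      rw [e]
      exact hiso s hs
    exact (isIso_iff_of_reflects_iso _ (Over.forget _)).1 this
  haveI h2 : IsIso ((Over.pullback (Spec.map φ ≫ S.fromSpecResidueField s)).map ψ) := by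
    rw [NatIso.isIso_map_iff (Over.pullbackComp (Spec.map φ) (S.fromSpecResidueField s)) ψ]
    rw [Functor.comp_map]
    infer_instance
  have h3 : IsIso ((Over.forget _).map ((Over.pullback (Spec.map φ ≫ S.fromSpecResidueField s)).map ψ)) :=
    inferInstance
  have e : ((Over.pullback (Spec.map φ ≫ S.fromSpecResidueField s)).map ψ).left =
      pullback.map h (Spec.map φ ≫ S.fromSpecResidueField s) g (Spec.map φ ≫ S.fromSpecResidueField s) Ψ
        (𝟙 _) (𝟙 S) (by simp [w]) (by simp) := by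
    apply pullback.hom_ext <;> simp [ψ]
  rw [← e]
  exact h3

/-- Over an affine open, an iso on fibres over field points gives a bijection after base change. -/
theorem bijective_app_of_codim_one [IsLocallyNoetherian S] {g : Z ⟶ S} {h : X ⟶ S}
    [AlgebraicGeometry.IsFinite g] [Flat g] [AlgebraicGeometry.IsFinite h] [Flat h] (Ψ : X ⟶ Z) (w : Ψ ≫ g = h)
    (hiso : ∀ s : S, ringKrullDim (S.presheaf.stalk s) ≤ 1 →
      IsIso (pullback.map h (S.fromSpecResidueField s) g (S.fromSpecResidueField s) Ψ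
        (𝟙 _) (𝟙 S) (by simp [w]) (by simp)))
    {V : S.Opens} (hV : IsAffineOpen V) :
    Function.Bijective (Ψ.appLE (g ⁻¹ᵁ V) (h ⁻¹ᵁ V) (by subst w; exact le_rfl)) := by
  have hle : h ⁻¹ᵁ V ≤ Ψ ⁻¹ᵁ (g ⁻¹ᵁ V) := by subst w; exact le_rfl
  set b := Ψ.appLE (g ⁻¹ᵁ V) (h ⁻¹ᵁ V) hle with hb
  haveI : IsNoetherianRing Γ(S, V) := IsLocallyNoetherian.component_noetherian ⟨V, hV⟩
  letI : Algebra Γ(S, V) Γ(Z, g ⁻¹ᵁ V) := (g.app V).hom.toAlgebra
  letI : Algebra Γ(S, V) Γ(X, h ⁻¹ᵁ V) := (h.app V).hom.toAlgebra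
  haveI : Module.Finite Γ(S, V) Γ(Z, g ⁻¹ᵁ V) := g.finite_app V hV
  haveI : Module.Finite Γ(S, V) Γ(X, h ⁻¹ᵁ V) := h.finite_app V hV
  haveI : Module.Flat Γ(S, V) Γ(Z, g ⁻¹ᵁ V) := by
    have := HasRingHomProperty.appLE @Flat g inferInstance ⟨V, hV⟩ ⟨_, hV.preimage g⟩ le_rfl
    rw [Scheme.Hom.appLE_eq_app] at this
    exact this
  haveI : Module.Flat Γ(S, V) Γ(X, h ⁻¹ᵁ V) := by
    have := HasRingHomProperty.appLE @Flat h inferInstance ⟨V, hV⟩ ⟨_, hV.preimage h⟩ le_rfl
    rw [Scheme.Hom.appLE_eq_app] at this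
    exact this
  have hcomm : g.app V ≫ b = h.app V := by
    rw [hb, ← Scheme.Hom.appLE_eq_app, Scheme.Hom.appLE_comp_appLE, ← Scheme.Hom.appLE_eq_app h]
    simp only [w]
  let β : Γ(Z, g ⁻¹ᵁ V) →ₐ[Γ(S, V)] Γ(X, h ⁻¹ᵁ V) :=
    { b.hom with commutes' := fun r => ConcreteCategory.congr_hom hcomm r }
  suffices hβ : Function.Bijective β from hβ
  refine bijective_codim_one β.toLinearMap fun K _ _ hK => ?_
  let R := Γ(S, V)
  let σ : Spec (CommRingCat.of K) ⟶ S := Spec.map (CommRingCat.ofHom (algebraMap R K)) ≫ hV.fromSpec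
  have hσ : ∀ s : S, s ∈ Set.range σ → ringKrullDim (S.presheaf.stalk s) ≤ 1 := by
    rintro _ ⟨x, rfl⟩
    let P : PrimeSpectrum R := Spec.map (CommRingCat.ofHom (algebraMap R K)) x
    have hPK : P.asIdeal = RingHom.ker (algebraMap R K) := by
      show Ideal.comap (algebraMap R K) (x : PrimeSpectrum K).asIdeal = _
      rw [(Ideal.eq_bot_of_prime (x : PrimeSpectrum K).asIdeal), RingHom.ker_eq_comap_bot]
    have hmem : hV.fromSpec P ∈ V := by
      rw [← SetLike.mem_coe, ← hV.range_fromSpec]; exact ⟨P, rfl⟩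
    letI := TopCat.Presheaf.algebra_section_stalk S.presheaf (⟨hV.fromSpec P, hmem⟩ : V)
    haveI : IsLocalization.AtPrime (S.presheaf.stalk (hV.fromSpec P)) P.asIdeal :=
      hV.isLocalization_stalk' P hmem
    rw [show σ x = hV.fromSpec P from rfl, IsLocalization.AtPrime.ringKrullDim_eq_height P.asIdeal, hPK]
    exact_mod_cast hK
  haveI := isIso_map_of_field Ψ w σ fun s hs => hiso s (hσ s hs)
  -- the affine squares
  have sq : ∀ {T : Scheme.{u}} (t : T ⟶ S) [AlgebraicGeometry.IsFinite t],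
      letI : Algebra R Γ(T, t ⁻¹ᵁ V) := (t.app V).hom.toAlgebra
      IsPullback (Spec.map (CommRingCat.ofHom
          (Algebra.TensorProduct.includeRight : Γ(T, t ⁻¹ᵁ V) →ₐ[R] K ⊗[R] Γ(T, t ⁻¹ᵁ V)).toRingHom) ≫
          (hV.preimage t).fromSpec)
        (Spec.map (CommRingCat.ofHom
          (Algebra.TensorProduct.includeLeftRingHom : K →+* K ⊗[R] Γ(T, t ⁻¹ᵁ V)))) t σ := by
    intro T t _
    letI : Algebra R Γ(T, t ⁻¹ᵁ V) := (t.app V).hom.toAlgebra
    have h1 := isPullback_SpecMap_of_isPushout _ _ _ _ (CommRingCat.isPushout_tensorProduct R K Γ(T, t ⁻¹ᵁ V))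
    have h2 : IsPullback (Spec.map (t.app V)) (hV.preimage t).fromSpec hV.fromSpec t := by
      refine IsOpenImmersion.isPullback (Spec.map (t.app V)) (hV.preimage t).fromSpec hV.fromSpec t ?_ ?_
      · rw [← hV.SpecMap_appLE_fromSpec t (hV.preimage t) le_rfl, Scheme.Hom.appLE_eq_app]
      · rw [hV.opensRange_fromSpec, (hV.preimage t).opensRange_fromSpec]
    exact (h1.paste_vert h2).flip
  have hX := sq h
  have hZ := sq g
  let B := Spec.map (CommRingCat.ofHom (Algebra.TensorProduct.map (AlgHom.id K K) β).toRingHom)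
  have hBb : (Ψ.appLE (g ⁻¹ᵁ V) (h ⁻¹ᵁ V) hle) = CommRingCat.ofHom β.toRingHom := rfl
  have hnat : Spec.map (CommRingCat.ofHom β.toRingHom) ≫ (hV.preimage g).fromSpec =
      (hV.preimage h).fromSpec ≫ Ψ := by
    rw [← hBb]
    exact IsAffineOpen.SpecMap_appLE_fromSpec Ψ (hV.preimage g) (hV.preimage h) hle
  have key : hX.isoPullback.hom ≫ pullback.map h σ g σ Ψ (𝟙 _) (𝟙 S) (by simp [w]) (by simp) =
      B ≫ hZ.isoPullback.hom := by
    apply pullback.hom_ext
    · simp only [Category.assoc, pullback.map, pullback.lift_fst, IsPullback.isoPullback_hom_fst,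
        IsPullback.isoPullback_hom_fst_assoc]
      rw [← hnat, ← Category.assoc B, ← Spec.map_comp, ← Category.assoc (Spec.map _), ← Spec.map_comp]
      congr 2
    · simp only [Category.assoc, pullback.map, pullback.lift_snd, IsPullback.isoPullback_hom_snd,
        IsPullback.isoPullback_hom_snd_assoc, Category.comp_id]
      rw [← Spec.map_comp]
      congr 1
      ext c
      show c ⊗ₜ[R] (1 : Γ(X, h ⁻¹ᵁ V)) = (Algebra.TensorProduct.map (AlgHom.id K K) β) (c ⊗ₜ[R] (1 : Γ(Z, g ⁻¹ᵁ V)))
      rw [Algebra.TensorProduct.map_tmul, map_one]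
      rfl
  haveI : IsIso (B ≫ hZ.isoPullback.hom) := key ▸ inferInstance
  haveI : IsIso B := IsIso.of_isIso_comp_right B hZ.isoPullback.hom
  have hbij := isIso_SpecMap_iff.1 ‹IsIso B›
  have hfun : (β.toLinearMap.baseChange K : _ → _) = Algebra.TensorProduct.map (AlgHom.id K K) β := by
    funext z
    induction z with
    | zero => simp
    | tmul a c => simp
    | add x y hx hy => simp [hx, hy]
  rw [hfun]
  exact hbij

theorem isIso_of_codim_one [IsLocallyNoetherian S] {g : Z ⟶ S} {h : X ⟶ S}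
    [AlgebraicGeometry.IsFinite g] [Flat g] [AlgebraicGeometry.IsFinite h] [Flat h] (Ψ : X ⟶ Z) (w : Ψ ≫ g = h)
    (hiso : ∀ s : S, ringKrullDim (S.presheaf.stalk s) ≤ 1 →
      IsIso (pullback.map h (S.fromSpecResidueField s) g (S.fromSpecResidueField s) Ψ
        (𝟙 _) (𝟙 S) (by simp [w]) (by simp))) : IsIso Ψ := by
  haveI : IsAffineHom (Ψ ≫ g) := w ▸ inferInstance
  haveI : IsAffineHom Ψ := IsAffineHom.of_comp Ψ g
  have hcov : ⨆ V : S.affineOpens, g ⁻¹ᵁ V.1 = ⊤ := by
    rw [eq_top_iff]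
    intro z _
    obtain ⟨_, ⟨V, hV, rfl⟩, hzV, -⟩ := S.isBasis_affineOpens.exists_subset_of_mem_open
      (show g z ∈ (⊤ : S.Opens) from trivial) (⊤ : S.Opens).2
    exact Opens.mem_iSup.2 ⟨⟨V, hV⟩, hzV⟩
  show MorphismProperty.isomorphisms Scheme.{u} Ψ
  rw [IsZariskiLocalAtTarget.iff_of_iSup_eq_top (P := MorphismProperty.isomorphisms Scheme.{u}) _ hcov]
  intro V
  show IsIso (Ψ ∣_ g ⁻¹ᵁ V.1)
  rw [isIso_morphismRestrict_iff_isIso_app Ψ (V.2.preimage g), ConcreteCategory.isIso_iff_bijective]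
  have hb := bijective_app_of_codim_one Ψ w hiso V.2
  subst w
  have hb' : Function.Bijective (Ψ.appLE (g ⁻¹ᵁ V.1) (Ψ ⁻¹ᵁ g ⁻¹ᵁ V.1) le_rfl) := hb
  rw [Scheme.Hom.appLE_eq_app] at hb'
  exact hb'

theorem surjective_of_codim_zero [IsLocallyNoetherian S] {Y : Scheme.{u}} (f : Y ⟶ S)
    [AlgebraicGeometry.IsFinite f] [Flat f]
    (h : ∀ s : S, ringKrullDim (S.presheaf.stalk s) ≤ 1 → s ∈ Set.range f) : Function.Surjective f := by
  intro s
  obtain ⟨_, ⟨V, hV, rfl⟩, hsV, -⟩ := S.isBasis_affineOpens.exists_subset_of_mem_open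
      (show s ∈ (⊤ : S.Opens) from trivial) (⊤ : S.Opens).2
  obtain ⟨p, hp⟩ : s ∈ Set.range hV.fromSpec := by rw [hV.range_fromSpec]; exact hsV
  obtain ⟨q, hq, hqp⟩ := Ideal.exists_minimalPrimes_le (I := (⊥ : Ideal Γ(S, V))) (J := p.asIdeal) bot_le
  haveI := hq.isPrime
  let Q : PrimeSpectrum Γ(S, V) := ⟨q, hq.isPrime⟩
  have hmem : hV.fromSpec Q ∈ V := by rw [← SetLike.mem_coe, ← hV.range_fromSpec]; exact ⟨Q, rfl⟩
  letI := TopCat.Presheaf.algebra_section_stalk S.presheaf (⟨hV.fromSpec Q, hmem⟩ : V)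
  haveI : IsLocalization.AtPrime (S.presheaf.stalk (hV.fromSpec Q)) Q.asIdeal := hV.isLocalization_stalk' Q hmem
  have hdim : ringKrullDim (S.presheaf.stalk (hV.fromSpec Q)) ≤ 1 := by
    rw [IsLocalization.AtPrime.ringKrullDim_eq_height Q.asIdeal, Ideal.height_eq_zero_iff.2 hq]
    norm_num
  have hcl : IsClosed (Set.range f) := f.isClosedMap.isClosed_range
  have hsp : hV.fromSpec Q ⤳ s := by
    rw [← hp]
    exact ((PrimeSpectrum.le_iff_specializes Q p).1 hqp).map hV.fromSpec.continuous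
  exact hsp.mem_closed hcl (h _ hdim)

end Groth.Agent.FinFlatExt
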