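/-
Unique extension of morphisms of finite flat schemes.
-/
import Mathlib
import Groth.Agent.FinFlatExt.Basic

universe u

open CategoryTheory AlgebraicGeometry TopologicalSpace Opposite Limits IsLocalRing

set_option backward.isDefEq.respectTransparency false

noncomputable section

namespace Groth.Agent.FinFlatExt

variable {S G₁ G₂ : Scheme.{u}} [IsLocallyNoetherian S] (f₁ : G₁ ⟶ S) (f₂ : G₂ ⟶ S)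
  [AlgebraicGeometry.IsFinite f₁] [Flat f₁] [AlgebraicGeometry.IsFinite f₂] (U : S.Opens)

theorem range_subset {V : S.Opens} {T : G₁.Opens} (hT : T ≤ f₁ ⁻¹ᵁ V) (a : T.toScheme ⟶ G₂)
    (ha : a ≫ f₂ = T.ι ≫ f₁) : Set.range a ⊆ Set.range (f₂ ⁻¹ᵁ V).ι := by
  rintro _ ⟨z, rfl⟩
  rw [Scheme.Opens.range_ι]
  show f₂ (a z) ∈ V
  rw [← Scheme.Hom.comp_apply, ha]
  exact hT z.2

/-- Uniqueness on the preimage of an affine open. -/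
theorem eq_of_affine (hU : ∀ s : S, s ∉ U → (1 : ℕ∞) ≤ LocCoh.depth (S.presheaf.stalk s) (S.presheaf.stalk s))
    {V : S.Opens} (hV : IsAffineOpen V) (a b : (f₁ ⁻¹ᵁ V).toScheme ⟶ G₂)
    (ha : a ≫ f₂ = (f₁ ⁻¹ᵁ V).ι ≫ f₁) (hb : b ≫ f₂ = (f₁ ⁻¹ᵁ V).ι ≫ f₁)
    (h : G₁.homOfLE (inf_le_right : f₁ ⁻¹ᵁ U ⊓ f₁ ⁻¹ᵁ V ≤ f₁ ⁻¹ᵁ V) ≫ a =
      G₁.homOfLE (inf_le_right : f₁ ⁻¹ᵁ U ⊓ f₁ ⁻¹ᵁ V ≤ f₁ ⁻¹ᵁ V) ≫ b) : a = b := by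
  haveI : IsAffine (f₂ ⁻¹ᵁ V).toScheme := hV.preimage f₂
  rw [← IsOpenImmersion.lift_fac _ a (range_subset f₁ f₂ le_rfl a ha),
    ← IsOpenImmersion.lift_fac _ b (range_subset f₁ f₂ le_rfl b hb)]
  congr 1
  refine hom_ext_of_injective _ (injective_res f₁ U hU hV) ?_
  rw [← cancel_mono (f₂ ⁻¹ᵁ V).ι]
  simp only [Category.assoc, IsOpenImmersion.lift_fac]
  exact h

/-- Morphisms agreeing over an open containing all points of depth zero are equal. -/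
theorem ext_of_one_le (hU : ∀ s : S, s ∉ U → (1 : ℕ∞) ≤ LocCoh.depth (S.presheaf.stalk s) (S.presheaf.stalk s))
    (φ ψ : G₁ ⟶ G₂) (hφ : φ ≫ f₂ = f₁) (hψ : ψ ≫ f₂ = f₁)
    (h : (f₁ ⁻¹ᵁ U).ι ≫ φ = (f₁ ⁻¹ᵁ U).ι ≫ ψ) : φ = ψ := by
  refine Scheme.hom_ext_of_forall _ _ fun x => ?_
  obtain ⟨_, ⟨V, hV, rfl⟩, hxV, -⟩ := S.isBasis_affineOpens.exists_subset_of_mem_open
    (show f₁ x ∈ (⊤ : S.Opens) from trivial) (⊤ : S.Opens).2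
  refine ⟨f₁ ⁻¹ᵁ V, hxV, eq_of_affine f₁ f₂ U hU hV _ _ (by rw [Category.assoc, hφ]) (by rw [Category.assoc, hψ]) ?_⟩
  rw [Scheme.homOfLE_ι_assoc, Scheme.homOfLE_ι_assoc]
  have := congrArg (G₁.homOfLE (inf_le_left : f₁ ⁻¹ᵁ U ⊓ f₁ ⁻¹ᵁ V ≤ f₁ ⁻¹ᵁ U) ≫ ·) h
  simpa only [Scheme.homOfLE_ι_assoc] using this

/-- Morphisms over an open with complement of depth at least two extend. -/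
theorem exists_extension (hU : ∀ s : S, s ∉ U → (2 : ℕ∞) ≤ LocCoh.depth (S.presheaf.stalk s) (S.presheaf.stalk s))
    (g : (f₁ ⁻¹ᵁ U).toScheme ⟶ G₂) (hg : g ≫ f₂ = (f₁ ⁻¹ᵁ U).ι ≫ f₁) :
    ∃ φ : G₁ ⟶ G₂, φ ≫ f₂ = f₁ ∧ (f₁ ⁻¹ᵁ U).ι ≫ φ = g := by
  have hU1 : ∀ s : S, s ∉ U → (1 : ℕ∞) ≤ LocCoh.depth (S.presheaf.stalk s) (S.presheaf.stalk s) :=
    fun s hs => le_trans (by norm_num) (hU s hs)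
  have hloc : ∀ V : S.affineOpens, ∃ a : (f₁ ⁻¹ᵁ V.1).toScheme ⟶ G₂, a ≫ f₂ = (f₁ ⁻¹ᵁ V.1).ι ≫ f₁ ∧
      G₁.homOfLE (inf_le_right : f₁ ⁻¹ᵁ U ⊓ f₁ ⁻¹ᵁ V.1 ≤ f₁ ⁻¹ᵁ V.1) ≫ a =
        G₁.homOfLE (inf_le_left : f₁ ⁻¹ᵁ U ⊓ f₁ ⁻¹ᵁ V.1 ≤ f₁ ⁻¹ᵁ U) ≫ g := fun V => by
    haveI : IsAffine (f₂ ⁻¹ᵁ V.1).toScheme := V.2.preimage f₂
    haveI : IsAffine (V.1).toScheme := V.2
    let W := f₁ ⁻¹ᵁ U ⊓ f₁ ⁻¹ᵁ V.1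
    have hW : (G₁.homOfLE (inf_le_left : W ≤ f₁ ⁻¹ᵁ U) ≫ g) ≫ f₂ = W.ι ≫ f₁ := by
      rw [Category.assoc, hg, Scheme.homOfLE_ι_assoc]
    obtain ⟨a, ha⟩ := exists_lift (inf_le_right : W ≤ f₁ ⁻¹ᵁ V.1) (bijective_res f₁ U hU V.2)
      (IsOpenImmersion.lift (f₂ ⁻¹ᵁ V.1).ι _ (range_subset f₁ f₂ inf_le_right _ hW))
    refine ⟨a ≫ (f₂ ⁻¹ᵁ V.1).ι, ?_, by rw [← Category.assoc, ha, IsOpenImmersion.lift_fac]⟩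
    have key : a ≫ f₂.resLE V.1 (f₂ ⁻¹ᵁ V.1) le_rfl = f₁.resLE V.1 (f₁ ⁻¹ᵁ V.1) le_rfl := by
      refine hom_ext_of_injective (A := (V.1).toScheme) (inf_le_right : W ≤ f₁ ⁻¹ᵁ V.1)
        (bijective_res f₁ U hU V.2).1 ?_
      rw [← cancel_mono (V.1).ι]
      simp only [Category.assoc, Scheme.Hom.resLE_comp_ι]
      rw [reassoc_of% ha, IsOpenImmersion.lift_fac_assoc, Scheme.homOfLE_ι_assoc]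
      rw [Category.assoc] at hW
      exact hW
    have := congrArg (· ≫ (V.1).ι) key
    simpa only [Category.assoc, Scheme.Hom.resLE_comp_ι] using this
  choose a ha1 ha2 using hloc
  have hagree : ∀ (V : S.Opens) (_ : IsAffineOpen V) (V₁ : S.affineOpens) (h₁ : V ≤ V₁.1),
      G₁.homOfLE (f₁.preimage_mono h₁) ≫ a V₁ ≫ f₂ = (f₁ ⁻¹ᵁ V).ι ≫ f₁ ∧
      G₁.homOfLE (inf_le_right : f₁ ⁻¹ᵁ U ⊓ f₁ ⁻¹ᵁ V ≤ f₁ ⁻¹ᵁ V) ≫ G₁.homOfLE (f₁.preimage_mono h₁) ≫ a V₁ =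
        G₁.homOfLE (inf_le_left : f₁ ⁻¹ᵁ U ⊓ f₁ ⁻¹ᵁ V ≤ f₁ ⁻¹ᵁ U) ≫ g := by
    intro V _ V₁ h₁
    refine ⟨by rw [ha1, Scheme.homOfLE_ι_assoc], ?_⟩
    have := congrArg (G₁.homOfLE (inf_le_inf_left (f₁ ⁻¹ᵁ U) (f₁.preimage_mono h₁)) ≫ ·) (ha2 V₁)
    simpa only [Scheme.homOfLE_homOfLE_assoc] using this
  have hcov : IsOpenCover fun V : S.affineOpens => f₁ ⁻¹ᵁ V.1 := by
    refine IsOpenCover.mk (eq_top_iff.2 fun x _ => ?_)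
    obtain ⟨_, ⟨V, hV, rfl⟩, hxV, -⟩ := S.isBasis_affineOpens.exists_subset_of_mem_open
      (show f₁ x ∈ (⊤ : S.Opens) from trivial) (⊤ : S.Opens).2
    exact Opens.mem_iSup.2 ⟨⟨V, hV⟩, hxV⟩
  let 𝒰 := G₁.openCoverOfIsOpenCover _ hcov
  have hglue : ∀ i j : S.affineOpens,
      pullback.fst (f₁ ⁻¹ᵁ i.1).ι (f₁ ⁻¹ᵁ j.1).ι ≫ a i = pullback.snd (f₁ ⁻¹ᵁ i.1).ι (f₁ ⁻¹ᵁ j.1).ι ≫ a j := by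
    intro i j
    refine Scheme.hom_ext_of_forall _ _ fun z => ?_
    let q := pullback.fst (f₁ ⁻¹ᵁ i.1).ι (f₁ ⁻¹ᵁ j.1).ι ≫ (f₁ ⁻¹ᵁ i.1).ι
    have hq : q = pullback.snd (f₁ ⁻¹ᵁ i.1).ι (f₁ ⁻¹ᵁ j.1).ι ≫ (f₁ ⁻¹ᵁ j.1).ι := pullback.condition
    have hi : f₁ (q z) ∈ i.1 := (pullback.fst (f₁ ⁻¹ᵁ i.1).ι (f₁ ⁻¹ᵁ j.1).ι z).2
    have hj : f₁ (q z) ∈ j.1 := by
      rw [hq]
      exact (pullback.snd (f₁ ⁻¹ᵁ i.1).ι (f₁ ⁻¹ᵁ j.1).ι z).2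
    obtain ⟨_, ⟨V, hV, rfl⟩, hxV, hVij⟩ := S.isBasis_affineOpens.exists_subset_of_mem_open
      (show f₁ (q z) ∈ i.1 ⊓ j.1 from ⟨hi, hj⟩) (i.1 ⊓ j.1).2
    have hVi : V ≤ i.1 := fun y hy => (hVij hy).1
    have hVj : V ≤ j.1 := fun y hy => (hVij hy).2
    obtain ⟨hi1, hi2⟩ := hagree V hV i hVi
    obtain ⟨hj1, hj2⟩ := hagree V hV j hVj
    have heq := eq_of_affine f₁ f₂ U hU1 hV _ _ (by rw [Category.assoc]; exact hi1)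
      (by rw [Category.assoc]; exact hj1) (hi2.trans hj2.symm)
    refine ⟨q ⁻¹ᵁ (f₁ ⁻¹ᵁ V), hxV, ?_⟩
    have h1 : (q ⁻¹ᵁ (f₁ ⁻¹ᵁ V)).ι ≫ pullback.fst (f₁ ⁻¹ᵁ i.1).ι (f₁ ⁻¹ᵁ j.1).ι =
        (q ∣_ (f₁ ⁻¹ᵁ V)) ≫ G₁.homOfLE (f₁.preimage_mono hVi) := by
      rw [← cancel_mono (f₁ ⁻¹ᵁ i.1).ι]
      simp only [Category.assoc, Scheme.homOfLE_ι, morphismRestrict_ι]
      rfl
    have h2 : (q ⁻¹ᵁ (f₁ ⁻¹ᵁ V)).ι ≫ pullback.snd (f₁ ⁻¹ᵁ i.1).ι (f₁ ⁻¹ᵁ j.1).ι =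
        (q ∣_ (f₁ ⁻¹ᵁ V)) ≫ G₁.homOfLE (f₁.preimage_mono hVj) := by
      rw [← cancel_mono (f₁ ⁻¹ᵁ j.1).ι]
      simp only [Category.assoc, Scheme.homOfLE_ι, morphismRestrict_ι, ← hq]
    rw [← Category.assoc, h1, ← Category.assoc, h2, Category.assoc, Category.assoc, heq]
  let φ : G₁ ⟶ G₂ := 𝒰.glueMorphisms a hglue
  have hφ : ∀ V : S.affineOpens, (f₁ ⁻¹ᵁ V.1).ι ≫ φ = a V := fun V => 𝒰.ι_glueMorphisms a hglue V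
  refine ⟨φ, Scheme.hom_ext_of_forall _ _ fun x => ?_, Scheme.hom_ext_of_forall _ _ fun x => ?_⟩
  · obtain ⟨V, hV⟩ := hcov.exists_mem x
    exact ⟨f₁ ⁻¹ᵁ V.1, hV, by rw [← Category.assoc, hφ, ha1]⟩
  · obtain ⟨V, hV⟩ := hcov.exists_mem x.1
    refine ⟨(f₁ ⁻¹ᵁ U).ι ⁻¹ᵁ (f₁ ⁻¹ᵁ V.1), hV, ?_⟩
    let W := f₁ ⁻¹ᵁ U ⊓ f₁ ⁻¹ᵁ V.1
    let e : ((f₁ ⁻¹ᵁ U).ι ⁻¹ᵁ (f₁ ⁻¹ᵁ V.1)).toScheme ⟶ W.toScheme :=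
      IsOpenImmersion.lift W.ι (((f₁ ⁻¹ᵁ U).ι ⁻¹ᵁ (f₁ ⁻¹ᵁ V.1)).ι ≫ (f₁ ⁻¹ᵁ U).ι) (by
        rintro _ ⟨y, rfl⟩
        rw [Scheme.Opens.range_ι]
        exact ⟨y.1.2, y.2⟩)
    have he : e ≫ G₁.homOfLE (inf_le_left : W ≤ f₁ ⁻¹ᵁ U) = ((f₁ ⁻¹ᵁ U).ι ⁻¹ᵁ (f₁ ⁻¹ᵁ V.1)).ι := by
      rw [← cancel_mono (f₁ ⁻¹ᵁ U).ι, Category.assoc, Scheme.homOfLE_ι, IsOpenImmersion.lift_fac]
    rw [← he]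
    simp only [Category.assoc]
    congr 1
    rw [Scheme.homOfLE_ι_assoc, ← Scheme.homOfLE_ι_assoc _ (inf_le_right : W ≤ f₁ ⁻¹ᵁ V.1), hφ]
    exact ha2 V

end Groth.Agent.FinFlatExt
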